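import Cfsg.Agent.H699.SpSixMain
import Cfsg.Agent.H604.OZ.Basic
import Cfsg.Agent.H733.OZ.Good
import Cfsg.Agent.H30.OZ.Bad
import Cfsg.Agent.H730.OZ.Asm
import Cfsg.Agent.S0245
import Cfsg.Agent.S0270

/-!
# S4842: the row `PSp₆(2)` (helper656)

`G = Sp₆(2)`, `|G| = 2⁹ 3⁴ 5 7`. Two rational classes of elements of order 8 with centralizers of order 16 (they are
distinguished by the number of vectors `v` with `(v, y v) = 0`: 24 and 40), a rational element of order 9 which is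
self-centralizing, elements of order 15 and 7. Let `χ` vanish exactly on the class of `x`, `c = |C(x)| ≥ 4`, `d = χ(1)`.
`2 ∣ d`: the excess of the two classes of order 8 is `3/16` each. `5 ∣ d`: elements of order 5 and 15 are conjugate to `x`.
`3 ∣ d`: the excess of the element of order 9 is `8/9`, so `x` is conjugate to it, `c = 9`, `d² ≡ 1 (mod 5, 7)`, `d = 3ᵇ`.
Otherwise `d = 7`, `x` has order 7, `c ≥ 7 > 5`, `7² ≡ 1 (mod 5)`.
-/

set_option autoImplicit false
set_option linter.unusedSectionVars false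

open Cfsg Matrix Cfsg.Agent.ClassicalGeometry.SympBasic
open Cfsg.Agent.H699.SpSix

namespace Cfsg.Agent.H656.OZ

/-! ### Cyclic vectors -/

/-- `p` is a cyclic vector of `y` -/
def Cyc (y : GG) (p : VV) : Prop :=
  ∀ j : Fin 3 ⊕ Fin 3, ∃ c : Fin 6 → ZMod 2, (Pi.single j 1 : VV) = ∑ i : Fin 6, c i • act (y ^ (i : ℕ)) p

theorem cyc_of {y : GG} {p : VV} (T : Fin 6 → VV) (h0 : T 0 = p) (h1 : act y (T 0) = T 1) (h2 : act y (T 1) = T 2)
    (h3 : act y (T 2) = T 3) (h4 : act y (T 3) = T 4) (h5 : act y (T 4) = T 5)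
    (hs : ∀ j : Fin 3 ⊕ Fin 3, ∃ c : Fin 6 → ZMod 2, (Pi.single j 1 : VV) = ∑ i : Fin 6, c i • T i) : Cyc y p := by
  have hp : ∀ n : ℕ, act (y ^ (n + 1)) p = act y (act (y ^ n) p) := fun n => by rw [pow_succ', act_mul]
  have e0 : act (y ^ 0) p = T 0 := by rw [pow_zero, act_one, h0]
  have e1 : act (y ^ 1) p = T 1 := by rw [hp 0, e0, h1]
  have e2 : act (y ^ 2) p = T 2 := by rw [hp 1, e1, h2]
  have e3 : act (y ^ 3) p = T 3 := by rw [hp 2, e2, h3]
  have e4 : act (y ^ 4) p = T 4 := by rw [hp 3, e3, h4]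
  have e5 : act (y ^ 5) p = T 5 := by rw [hp 4, e4, h5]
  have h : ∀ i : Fin 6, act (y ^ (i : ℕ)) p = T i := by
    intro i
    fin_cases i
    exacts [e0, e1, e2, e3, e4, e5]
  intro j
  obtain ⟨c, hc⟩ := hs j
  exact ⟨c, by rw [hc]; exact Finset.sum_congr rfl fun i _ => by rw [h i]⟩

theorem eq_of_act {y : GG} {p : VV} (hcy : Cyc y p) {a b : GG} (ha : a * y = y * a) (hb : b * y = y * b)
    (h : act a p = act b p) : a = b := by
  have hpow : ∀ z : GG, z * y = y * z → ∀ n : ℕ, act z (act (y ^ n) p) = act (y ^ n) (act z p) := by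
    intro z hz n
    have : Commute z y := hz
    rw [← act_mul, ← act_mul, (this.pow_right n).eq]
  have hs : ∀ j, act a (Pi.single j 1) = act b (Pi.single j 1) := by
    intro j
    obtain ⟨c, hc⟩ := hcy j
    rw [hc, act_sum, act_sum]
    refine Finset.sum_congr rfl fun i _ => ?_
    rw [act_smul, act_smul, hpow a ha, hpow b hb, h]
  apply act_ext
  intro v
  have hv : v = ∑ j, v j • (Pi.single j 1 : VV) := by
    ext k
    simp [Finset.sum_apply, Pi.single_apply]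
  rw [hv, act_sum, act_sum]
  exact Finset.sum_congr rfl fun j _ => by rw [act_smul, act_smul, hs]

/-- the centralizer of an element with a cyclic vector -/
theorem cent_le {y : GG} {p : VV} (hcy : Cyc y p) {B : ℕ}
    (himg : (Finset.univ.filter fun u : VV => bil u (act y u) = bil p (act y p) ∧
      bil u (act y (act y u)) = bil p (act y (act y p)) ∧
      bil u (act y (act y (act y u))) = bil p (act y (act y (act y p)))).card ≤ B) :
    Nat.card (Subgroup.centralizer ({y} : Set GG)) ≤ B := by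
  classical
  refine le_trans ?_ himg
  rw [← Fintype.card_subtype, ← Nat.card_eq_fintype_card]
  refine Nat.card_le_card_of_injective (fun x : Subgroup.centralizer ({y} : Set GG) =>
    (⟨act x.1 p, ?_⟩ : {u : VV // bil u (act y u) = bil p (act y p) ∧
      bil u (act y (act y u)) = bil p (act y (act y p)) ∧
      bil u (act y (act y (act y u))) = bil p (act y (act y (act y p)))})) ?_
  · have hx : x.1 * y = y * x.1 := (Subgroup.mem_centralizer_singleton_iff.1 x.2)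
    have h1 : ∀ v, act y (act x.1 v) = act x.1 (act y v) := fun v => by
      rw [← act_mul, ← act_mul, hx]
    refine ⟨?_, ?_, ?_⟩
    · rw [h1, bil_act]
    · rw [h1, h1, bil_act]
    · rw [h1, h1, h1, bil_act]
  · intro a b hab
    have h2 : act a.1 p = act b.1 p := congrArg Subtype.val hab
    exact Subtype.ext (eq_of_act hcy (Subgroup.mem_centralizer_singleton_iff.1 a.2)
      (Subgroup.mem_centralizer_singleton_iff.1 b.2) h2)

/-- the number of vectors orthogonal to their image -/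
noncomputable def nv (y : GG) : ℕ := Nat.card {v : VV // bil v (act y v) = 0}

theorem nv_conj {a b : GG} (h : IsConj a b) : nv a = nv b := by
  obtain ⟨c, rfl⟩ := isConj_iff.1 h
  refine Nat.card_congr ⟨fun v => ⟨act c v.1, ?_⟩, fun v => ⟨act c⁻¹ v.1, ?_⟩, fun v => ?_, fun v => ?_⟩
  · have h1 : act (c * a * c⁻¹) (act c v.1) = act c (act a v.1) := by
      rw [act_mul, act_mul, act_inv_act]
    rw [h1, bil_act]; exact v.2
  · have h1 : act a (act c⁻¹ v.1) = act c⁻¹ (act (c * a * c⁻¹) v.1) := by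
      rw [act_mul, act_mul, act_inv_act]
    rw [h1, bil_act]; exact v.2
  · exact Subtype.ext (act_inv_act c v.1)
  · exact Subtype.ext (act_act_inv c v.1)

/-! ### The elements -/

/-- order 8 -/
def ya : GG := ⟨fromBlocks !![1, 1, 1; 1, 0, 0; 1, 1, 1] !![1, 1, 0; 1, 0, 0; 1, 0, 1] !![1, 0, 1; 0, 1, 1; 0, 0, 1] !![1, 0, 1; 1, 0, 0; 0, 1, 1], by
  rw [SymplecticGroup.mem_iff]; decide +kernel⟩
def ta3 : GG := ⟨fromBlocks !![1, 0, 0; 1, 1, 0; 0, 0, 0] !![0, 0, 0; 0, 0, 0; 0, 0, 1] !![0, 0, 0; 0, 0, 0; 0, 0, 1] !![1, 1, 0; 0, 1, 0; 0, 0, 0], by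
  rw [SymplecticGroup.mem_iff]; decide +kernel⟩
def ta5 : GG := ⟨fromBlocks !![1, 1, 0; 1, 1, 1; 0, 0, 1] !![1, 1, 1; 0, 1, 0; 0, 1, 1] !![0, 1, 0; 0, 1, 0; 0, 1, 1] !![0, 0, 1; 1, 0, 1; 1, 1, 1], by
  rw [SymplecticGroup.mem_iff]; decide +kernel⟩
/-- order 8 -/
def yb : GG := ⟨fromBlocks !![0, 1, 0; 1, 0, 1; 0, 0, 1] !![1, 0, 1; 0, 0, 1; 1, 1, 0] !![0, 0, 1; 0, 0, 1; 1, 1, 0] !![1, 0, 0; 0, 1, 0; 1, 1, 1], by
  rw [SymplecticGroup.mem_iff]; decide +kernel⟩
def tb3 : GG := ⟨fromBlocks !![1, 0, 1; 0, 1, 1; 0, 0, 1] !![1, 0, 0; 0, 1, 0; 0, 0, 0] !![0, 0, 1; 0, 0, 1; 1, 1, 0] !![1, 0, 0; 0, 1, 0; 0, 0, 1], by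
  rw [SymplecticGroup.mem_iff]; decide +kernel⟩
def tb5 : GG := ⟨fromBlocks !![1, 0, 0; 0, 1, 0; 0, 0, 1] !![1, 0, 0; 0, 1, 0; 0, 0, 0] !![0, 0, 0; 0, 0, 0; 0, 0, 0] !![1, 0, 0; 0, 1, 0; 0, 0, 1], by
  rw [SymplecticGroup.mem_iff]; decide +kernel⟩
/-- order 9 -/
def yc : GG := ⟨fromBlocks !![0, 0, 0; 1, 1, 1; 0, 0, 1] !![1, 1, 0; 0, 1, 1; 0, 1, 0] !![0, 1, 1; 0, 0, 1; 1, 1, 1] !![1, 0, 1; 1, 1, 0; 0, 0, 0], by
  rw [SymplecticGroup.mem_iff]; decide +kernel⟩
def tc2 : GG := ⟨fromBlocks !![1, 1, 1; 0, 1, 1; 0, 0, 1] !![0, 0, 1; 0, 0, 1; 0, 1, 0] !![0, 0, 0; 0, 1, 1; 0, 0, 1] !![1, 0, 0; 1, 1, 1; 0, 0, 1], by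
  rw [SymplecticGroup.mem_iff]; decide +kernel⟩
/-- order 15 -/
def yd : GG := ⟨fromBlocks !![1, 0, 1; 0, 0, 0; 1, 1, 0] !![0, 1, 1; 1, 1, 1; 0, 1, 1] !![1, 1, 0; 0, 0, 1; 1, 0, 1] !![1, 0, 1; 0, 1, 1; 0, 0, 1], by
  rw [SymplecticGroup.mem_iff]; decide +kernel⟩

theorem ya_pow : ya ^ 8 = 1 := by
  apply Subtype.ext; rw [SubmonoidClass.coe_pow]; unfold ya; decide +kernel
theorem yb_pow : yb ^ 8 = 1 := by
  apply Subtype.ext; rw [SubmonoidClass.coe_pow]; unfold yb; decide +kernel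
theorem yc_pow : yc ^ 9 = 1 := by
  apply Subtype.ext; rw [SubmonoidClass.coe_pow]; unfold yc; decide +kernel
theorem ya_four : ya ^ 4 ≠ 1 := by
  intro h
  have h1 := congrArg Subtype.val h
  rw [SubmonoidClass.coe_pow] at h1
  revert h1
  unfold ya; decide +kernel
theorem yb_four : yb ^ 4 ≠ 1 := by
  intro h
  have h1 := congrArg Subtype.val h
  rw [SubmonoidClass.coe_pow] at h1
  revert h1
  unfold yb; decide +kernel
theorem yc_three : yc ^ 3 ≠ 1 := by
  intro h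
  have h1 := congrArg Subtype.val h
  rw [SubmonoidClass.coe_pow] at h1
  revert h1
  unfold yc; decide +kernel


/-! ### Cyclic vectors, centralizers -/

theorem cyc_ya : Cyc ya (Sum.elim ![1, 0, 0] ![0, 0, 0]) := by
  refine cyc_of (![Sum.elim ![1, 0, 0] ![0, 0, 0], Sum.elim ![1, 1, 1] ![1, 0, 0], Sum.elim ![0, 0, 0] ![1, 1, 1],
    Sum.elim ![0, 1, 0] ![0, 1, 0], Sum.elim ![0, 0, 1] ![0, 1, 1], Sum.elim ![0, 0, 0] ![0, 1, 1]] : Fin 6 → VV)
    rfl ?_ ?_ ?_ ?_ ?_ ?_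
  · unfold act ya; decide +kernel
  · unfold act ya; decide +kernel
  · unfold act ya; decide +kernel
  · unfold act ya; decide +kernel
  · unfold act ya; decide +kernel
  · decide +kernel

theorem cyc_yb : Cyc yb (Sum.elim ![0, 0, 0] ![1, 0, 0]) := by
  refine cyc_of (![Sum.elim ![0, 0, 0] ![1, 0, 0], Sum.elim ![1, 0, 1] ![1, 0, 1], Sum.elim ![0, 1, 0] ![0, 1, 1],
    Sum.elim ![0, 1, 1] ![0, 1, 1], Sum.elim ![0, 0, 0] ![1, 0, 1], Sum.elim ![0, 1, 1] ![1, 0, 0]] : Fin 6 → VV)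
    rfl ?_ ?_ ?_ ?_ ?_ ?_
  · unfold act yb; decide +kernel
  · unfold act yb; decide +kernel
  · unfold act yb; decide +kernel
  · unfold act yb; decide +kernel
  · unfold act yb; decide +kernel
  · decide +kernel

theorem cyc_yc : Cyc yc (Sum.elim ![1, 0, 0] ![0, 0, 0]) := by
  refine cyc_of (![Sum.elim ![1, 0, 0] ![0, 0, 0], Sum.elim ![0, 1, 0] ![0, 0, 1], Sum.elim ![0, 0, 0] ![0, 0, 1],
    Sum.elim ![0, 1, 0] ![1, 0, 0], Sum.elim ![1, 1, 0] ![0, 1, 1], Sum.elim ![1, 0, 1] ![0, 1, 0]] : Fin 6 → VV)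
    rfl ?_ ?_ ?_ ?_ ?_ ?_
  · unfold act yc; decide +kernel
  · unfold act yc; decide +kernel
  · unfold act yc; decide +kernel
  · unfold act yc; decide +kernel
  · unfold act yc; decide +kernel
  · decide +kernel

theorem cent_ya : Nat.card (Subgroup.centralizer ({ya} : Set GG)) ≤ 16 := by
  refine cent_le cyc_ya ?_
  unfold act ya
  decide +kernel

theorem cent_yb : Nat.card (Subgroup.centralizer ({yb} : Set GG)) ≤ 16 := by
  refine cent_le cyc_yb ?_
  unfold act yb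
  decide +kernel

theorem cent_yc : Nat.card (Subgroup.centralizer ({yc} : Set GG)) ≤ 9 := by
  refine cent_le cyc_yc ?_
  unfold act yc
  decide +kernel

theorem nv_eq (y : GG) : nv y = (Finset.univ.filter fun v : VV => bil v (act y v) = 0).card := by
  rw [nv, Nat.card_eq_fintype_card, Fintype.card_subtype]

theorem nv_ya : nv ya = 24 := by
  rw [nv_eq]; unfold act ya; decide +kernel

theorem nv_yb : nv yb = 40 := by
  rw [nv_eq]; unfold act yb; decide +kernel

theorem not_conj_ab : ¬ IsConj ya yb := fun h => by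
  have := nv_conj h
  rw [nv_ya, nv_yb] at this
  omega

/-! ### Rationality -/

theorem mat_ext {a b : GG} (h : (a : Matrix (Fin 3 ⊕ Fin 3) (Fin 3 ⊕ Fin 3) (ZMod 2)) = b) : a = b := Subtype.ext h

theorem ta3_conj : ta3 * ya = ya ^ 3 * ta3 := by
  apply mat_ext
  simp only [Submonoid.coe_mul, SubmonoidClass.coe_pow]
  unfold ta3 ya
  decide +kernel
theorem ta5_conj : ta5 * ya = ya ^ 5 * ta5 := by
  apply mat_ext
  simp only [Submonoid.coe_mul, SubmonoidClass.coe_pow]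
  unfold ta5 ya
  decide +kernel
theorem tb3_conj : tb3 * yb = yb ^ 3 * tb3 := by
  apply mat_ext
  simp only [Submonoid.coe_mul, SubmonoidClass.coe_pow]
  unfold tb3 yb
  decide +kernel
theorem tb5_conj : tb5 * yb = yb ^ 5 * tb5 := by
  apply mat_ext
  simp only [Submonoid.coe_mul, SubmonoidClass.coe_pow]
  unfold tb5 yb
  decide +kernel
theorem tc2_conj : tc2 * yc = yc ^ 2 * tc2 := by
  apply mat_ext
  simp only [Submonoid.coe_mul, SubmonoidClass.coe_pow]
  unfold tc2 yc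
  decide +kernel

theorem rat_eight {G : Type*} [Group G] {y s t : G} (h8 : y ^ 8 = 1) (h3 : s * y = y ^ 3 * s) (h5 : t * y = y ^ 5 * t)
    {k : ℕ} (hk : k % 2 = 1) : IsConj y (y ^ k) := by
  have e3 : MulAut.conj s y = y ^ 3 := by rw [MulAut.conj_apply, h3, mul_inv_cancel_right]
  have e5 : MulAut.conj t y = y ^ 5 := by rw [MulAut.conj_apply, h5, mul_inv_cancel_right]
  have h : k % 8 = 1 ∨ k % 8 = 3 ∨ k % 8 = 5 ∨ k % 8 = 7 := by omega
  rw [pow_eq_pow_mod k h8]
  rcases h with h | h | h | h <;> rw [h]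
  · rw [pow_one]
  · exact isConj_iff.2 ⟨s, e3⟩
  · exact isConj_iff.2 ⟨t, e5⟩
  · refine isConj_iff.2 ⟨s * t, ?_⟩
    have h1 : MulAut.conj (s * t) y = y ^ 7 := by
      rw [map_mul, MulAut.mul_apply, e5, map_pow, e3, ← pow_mul, pow_eq_pow_mod _ h8]
    exact h1

theorem rat_nine {G : Type*} [Group G] {y t : G} (h9 : y ^ 9 = 1) (h2 : t * y = y ^ 2 * t)
    {k : ℕ} (hk : ¬ k % 3 = 0) : IsConj y (y ^ k) := by
  have e : ∀ i : ℕ, MulAut.conj (t ^ i) y = y ^ (2 ^ i) := by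
    intro i
    induction i with
    | zero => simp
    | succ i ih =>
      rw [pow_succ' t, map_mul, MulAut.mul_apply, ih, map_pow, MulAut.conj_apply, h2, mul_inv_cancel_right,
        ← pow_mul, pow_succ' 2]
  have key : ∀ i : ℕ, k % 9 = 2 ^ i % 9 → IsConj y (y ^ k) := fun i hi => by
    refine isConj_iff.2 ⟨t ^ i, ?_⟩
    rw [pow_eq_pow_mod k h9, hi, ← pow_eq_pow_mod _ h9]
    exact e i
  have h : k % 9 = 1 ∨ k % 9 = 2 ∨ k % 9 = 4 ∨ k % 9 = 8 ∨ k % 9 = 7 ∨ k % 9 = 5 := by omega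
  rcases h with h | h | h | h | h | h
  · exact key 0 (by rw [h]; rfl)
  · exact key 1 (by rw [h]; rfl)
  · exact key 2 (by rw [h]; rfl)
  · exact key 3 (by rw [h]; rfl)
  · exact key 4 (by rw [h]; rfl)
  · exact key 5 (by rw [h]; rfl)

theorem card_GG : Nat.card GG = 1451520 := by
  rw [Cfsg.Agent.S0245.result (F := ZMod 2) (ZMod.card 2) 3]
  decide

theorem odd_of_coprime {k : ℕ} (hk : k.Coprime (Nat.card GG)) : k % 2 = 1 := by
  rw [card_GG] at hk
  have h : k.Coprime 2 := Nat.Coprime.coprime_dvd_right (by norm_num) hk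
  have := (Nat.Prime.coprime_iff_not_dvd Nat.prime_two).1 h.symm
  omega

theorem three_of_coprime {k : ℕ} (hk : k.Coprime (Nat.card GG)) : ¬ k % 3 = 0 := by
  rw [card_GG] at hk
  have h : k.Coprime 3 := Nat.Coprime.coprime_dvd_right (by norm_num) hk
  have := (Nat.Prime.coprime_iff_not_dvd Nat.prime_three).1 h.symm
  omega

theorem rat_ya (k : ℕ) (hk : k.Coprime (Nat.card GG)) : IsConj ya (ya ^ k) :=
  rat_eight ya_pow ta3_conj ta5_conj (odd_of_coprime hk)
theorem rat_yb (k : ℕ) (hk : k.Coprime (Nat.card GG)) : IsConj yb (yb ^ k) :=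
  rat_eight yb_pow tb3_conj tb5_conj (odd_of_coprime hk)
theorem rat_yc (k : ℕ) (hk : k.Coprime (Nat.card GG)) : IsConj yc (yc ^ k) :=
  rat_nine yc_pow tc2_conj (three_of_coprime hk)

/-! ### Orders -/

theorem orderOf_ya : orderOf ya = 8 := orderOf_eq_prime_pow (p := 2) (n := 2) ya_four ya_pow
theorem orderOf_yb : orderOf yb = 8 := orderOf_eq_prime_pow (p := 2) (n := 2) yb_four yb_pow
theorem orderOf_yc : orderOf yc = 9 := orderOf_eq_prime_pow (p := 3) (n := 1) (by simpa using yc_three) yc_pow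

theorem dvd_cent {G : Type*} [Group G] [Finite G] {x : G} :
    orderOf x ∣ Nat.card (Subgroup.centralizer ({x} : Set G)) := by
  rw [← Nat.card_zpowers]
  exact Subgroup.card_dvd_of_le (by rw [Subgroup.zpowers_le, Subgroup.mem_centralizer_singleton_iff])

theorem orderOf_g7 : orderOf g7 = 7 := by
  have : Fact (Nat.Prime 7) := ⟨by norm_num⟩
  exact orderOf_eq_prime g7_pow g7_ne

theorem yd_pow : yd ^ 15 = 1 := by
  apply Subtype.ext; rw [SubmonoidClass.coe_pow]; unfold yd; decide +kernel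
theorem yd_three : yd ^ 3 ≠ 1 := by
  intro h
  have h1 := congrArg Subtype.val h
  rw [SubmonoidClass.coe_pow] at h1
  revert h1
  unfold yd; decide +kernel
theorem yd_five : yd ^ 5 ≠ 1 := by
  intro h
  have h1 := congrArg Subtype.val h
  rw [SubmonoidClass.coe_pow] at h1
  revert h1
  unfold yd; decide +kernel

theorem orderOf_yd3 : orderOf (yd ^ 3) = 5 := by
  have : Fact (Nat.Prime 5) := ⟨by norm_num⟩
  exact orderOf_eq_prime (by rw [← pow_mul]; exact yd_pow) yd_three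

theorem orderOf_yd5 : orderOf (yd ^ 5) = 3 := by
  have : Fact (Nat.Prime 3) := ⟨by norm_num⟩
  exact orderOf_eq_prime (by rw [← pow_mul]; exact yd_pow) yd_five

theorem dvd_yd : 15 ∣ orderOf yd := by
  have h5 : 5 ∣ orderOf yd := by
    have := orderOf_pow_dvd (x := yd) 3
    rwa [orderOf_yd3] at this
  have h3 : 3 ∣ orderOf yd := by
    have := orderOf_pow_dvd (x := yd) 5
    rwa [orderOf_yd5] at this
  exact Nat.Coprime.mul_dvd_of_dvd_of_dvd (m := 3) (n := 5) (by decide) h3 h5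

/-! ### The row -/

section main

open Cfsg.Agent.H732.VZ Cfsg.Agent.H30.OZ

theorem cent_ge {x y : GG} (h : IsConj x y) {n : ℕ} (hn : orderOf y = n) :
    n ≤ Nat.card (Subgroup.centralizer ({x} : Set GG)) := by
  have h1 := dvd_cent (x := x)
  rw [H604.OZ.orderOf_eq_of_conj h, hn] at h1
  exact Nat.le_of_dvd Nat.card_pos h1

theorem none_GG {χ : IrrCharacter GG} {x : GG} (h : One χ x) : False := by
  classical
  have hN := card_GG
  have hc4 : 4 ≤ Nat.card (Subgroup.centralizer ({x} : Set GG)) :=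
    H604.OZ.four_le_cent h (by rw [hN]; norm_num) (by rw [hN]; norm_num)
  have hd1 := H604.OZ.one_lt_deg h
  have hdN := H604.OZ.deg_dvd χ
  have hN5 : (5 : ℕ) ^ 1 ∣ Nat.card GG := by rw [hN]; norm_num
  have hN5' : ¬ (5 : ℕ) ^ (1 + 1) ∣ Nat.card GG := by rw [hN]; norm_num
  have hN7 : (7 : ℕ) ^ 1 ∣ Nat.card GG := by rw [hN]; norm_num
  have hN7' : ¬ (7 : ℕ) ^ (1 + 1) ∣ Nat.card GG := by rw [hN]; norm_num
  have p5 : Nat.Prime 5 := by norm_num
  have p7 : Nat.Prime 7 := by norm_num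
  -- the degree is odd
  have h2 : ¬ 2 ∣ charDegree (χ : GG → ℂ) := by
    intro h2
    have Ia := isIntegral_div_of_elt rat_ya Nat.prime_two (k := 3) ya_pow h2
    have Ib := isIntegral_div_of_elt rat_yb Nat.prime_two (k := 3) yb_pow h2
    by_cases hxa : IsConj x ya
    · have hxb : ¬ IsConj x yb := fun hb => not_conj_ab (hxa.symm.trans hb)
      exact (ex_rat rat_yb (ne_of_one h hxb) (n := 2) (by norm_num) Ib cent_yb).false h
        (cent_ge hxa orderOf_ya) (by norm_num) (by norm_num)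
    · have Ea := ex_rat rat_ya (ne_of_one h hxa) (n := 2) (by norm_num) Ia cent_ya
      by_cases hxb : IsConj x yb
      · exact Ea.false h (cent_ge hxb orderOf_yb) (by norm_num) (by norm_num)
      · have Eb := ex_rat rat_yb (ne_of_one h hxb) (n := 2) (by norm_num) Ib cent_yb
        exact (Ea.union Eb (disj_cls not_conj_ab)).false h hc4 (by norm_num) (by norm_num)
  have hd : charDegree (χ : GG → ℂ) ∣ 2835 := by
    have h1 : (charDegree (χ : GG → ℂ)).Coprime (2 ^ 9) :=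
      Nat.Coprime.pow_right _ ((Nat.Prime.coprime_iff_not_dvd Nat.prime_two).2 h2).symm
    refine h1.dvd_of_dvd_mul_left ?_
    rw [hN] at hdN
    exact hdN
  -- prime to 5
  have h5 : ¬ 5 ∣ charDegree (χ : GG → ℂ) := by
    intro h5
    have h5' : 5 ^ 1 ∣ charDegree (χ : GG → ℂ) := by rwa [pow_one]
    have e1 := H604.OZ.conj_of_singular h p5 hN5 hN5' h5' (g := yd ^ 3) (by rw [orderOf_yd3])
    have e2 := H604.OZ.conj_of_singular h p5 hN5 hN5' h5' (g := yd) ((by norm_num : 5 ∣ 15).trans dvd_yd)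
    have e3 := H604.OZ.orderOf_eq_of_conj (e1.symm.trans e2)
    rw [orderOf_yd3] at e3
    have e4 := dvd_yd
    rw [← e3] at e4
    omega
  -- prime to 3
  have h3 : ¬ 3 ∣ charDegree (χ : GG → ℂ) := by
    intro h3
    by_cases hx : IsConj x yc
    · have hc : 9 ≤ Nat.card (Subgroup.centralizer ({x} : Set GG)) := cent_ge hx orderOf_yc
      have e5 := H733.OZ.pow_dvd h p5 hN5 hN5' (lt_of_lt_of_le (by norm_num) hc)
      have e7 := H733.OZ.pow_dvd h p7 hN7 hN7' (lt_of_lt_of_le (by norm_num) hc)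
      have key : ∀ d ∈ Nat.divisors 2835, ¬ 5 ∣ d → 5 ∣ d ^ 2 - 1 → 7 ∣ d ^ 2 - 1 → d ≤ 1 := by
        decide +kernel
      have := key _ (Nat.mem_divisors.2 ⟨hd, by norm_num⟩) h5 (by simpa using e5) (by simpa using e7)
      omega
    · have Ic := isIntegral_div_of_elt rat_yc Nat.prime_three (k := 2) yc_pow h3
      exact (ex_rat rat_yc (ne_of_one h hx) (n := 3) (by norm_num) Ic cent_yc).false h hc4 (by norm_num)
        (by norm_num)
  have key : ∀ d ∈ Nat.divisors 2835, ¬ 5 ∣ d → ¬ 3 ∣ d → d = 1 ∨ d = 7 := by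
    decide +kernel
  rcases key _ (Nat.mem_divisors.2 ⟨hd, by norm_num⟩) h5 h3 with h1 | h7
  · omega
  have e1 := H604.OZ.conj_of_singular h p7 hN7 hN7' (by rw [h7]; norm_num) (g := g7) (by rw [orderOf_g7])
  have hc : 7 ≤ Nat.card (Subgroup.centralizer ({x} : Set GG)) := cent_ge e1 orderOf_g7
  have e5 := H733.OZ.pow_dvd h p5 hN5 hN5' (lt_of_lt_of_le (by norm_num) hc)
  rw [h7] at e5
  revert e5
  norm_num

end main

theorem row_GG : H730.OZ.Row GG := H604.OZ.row_of fun _ _ h => none_GG h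

universe u

/-- **S4842, the row `PSp₆(2)`.** -/
theorem row_psp62 {S : Type u} [Group S] [Finite S] {F : Type} [Field F] [Fintype F] (hF : Fintype.card F = 2)
    (e : S ≃* PSp 3 F) : H730.OZ.Row S := by
  obtain ⟨e1⟩ := exists_equiv hF
  let e2 : Matrix.symplecticGroup (Fin 3) F ≃* PSp 3 F :=
    MulEquiv.ofBijective _ (center_quot_bijective hF (by norm_num))
  exact H730.OZ.Row.congr ((e.trans e2.symm).trans e1) row_GG

end Cfsg.Agent.H656.OZ
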